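import Cfsg.Agent.Lib.ClassicalForms.SLTwo.SylowTwo
import Cfsg.Agent.Lib.ReflectionsSpinor.PSLAutMain
import Cfsg.Agent.Lib.ReflectionsSpinor.PSLAutKernel
import Cfsg.Agent.Lib.ClassicalLinear.Simple
import Cfsg.Agent.Lib.Transfer.Abelian

/-!
`PSL₂(q)` with abelian Sylow 2-subgroups: `q ≡ 3, 5 mod 8`, and an automorphism of 2-power order
centralizing a Sylow 2-subgroup is conjugation by one of its elements.
-/

set_option autoImplicit false

open scoped MatrixGroups

namespace CfsgLib.PSLKleinAut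

open Matrix CfsgLib.ReflectionsSpinor

variable {F : Type*} [Field F] [Fintype F]

local notation "PSL₂" => Matrix.ProjectiveSpecialLinearGroup (Fin 2) F

theorem isSimpleGroup_psl2 (h3 : 3 < Fintype.card F) : IsSimpleGroup PSL₂ :=
  CfsgLib.ClassicalLinear.isSimpleGroup_psl (Or.inr
    (CfsgLib.ClassicalLinear.exists_sq_ne_one_of_four_le_card (by rw [Nat.card_eq_fintype_card]; omega)))

theorem commutator_psl2 (h3 : 3 < Fintype.card F) : commutator PSL₂ = ⊤ :=
  CfsgLib.ClassicalLinear.commutator_psl_eq_top (Or.inr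
    (CfsgLib.ClassicalLinear.exists_sq_ne_one_of_four_le_card (by rw [Nat.card_eq_fintype_card]; omega)))

/-- An abelian Sylow 2-subgroup of `PSL₂(q)`, `q` odd, forces `q ≡ 3, 5 mod 8`. -/
theorem card_mod_eight (hodd : Odd (Fintype.card F)) (h3 : 3 < Fintype.card F)
    (P : Sylow 2 PSL₂) (hab : IsMulCommutative ↥(P : Subgroup PSL₂)) :
    Fintype.card F % 8 = 3 ∨ Fintype.card F % 8 = 5 := by
  have h1 := Nat.odd_iff.1 hodd
  by_contra hne
  have h17 : Fintype.card F % 8 = 1 ∨ Fintype.card F % 8 = 7 := by omega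
  have hodd' : Nat.card F % 2 = 1 := by rwa [Nat.card_eq_fintype_card]
  obtain ⟨S⟩ : Nonempty (Sylow 2 SL(2, F)) := inferInstance
  have h16 : 16 ∣ Nat.card (S : Subgroup SL(2, F)) := by
    have : 2 ^ 4 ∣ Nat.card SL(2, F) := by
      rw [CfsgLib.SL2.card_SL, Nat.card_eq_fintype_card]
      refine Dvd.dvd.mul_left ?_ _
      obtain ⟨k, hk⟩ : ∃ k, Fintype.card F = 8 * k + 1 ∨ Fintype.card F = 8 * k + 7 :=
        ⟨Fintype.card F / 8, by omega⟩
      rcases hk with hk | hk <;> rw [hk]
      · exact ⟨4 * k ^ 2 + k, Nat.sub_eq_of_eq_add (by ring)⟩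
      · exact ⟨4 * k ^ 2 + 7 * k + 3, Nat.sub_eq_of_eq_add (by ring)⟩
    exact S.pow_dvd_card_of_pow_dvd_card this
  have hN := (CfsgLib.SL2.sylow_two_structure hodd' S).2.1 h16
  -- the image of `S` is a self-normalising Sylow subgroup
  let π : SL(2, F) →* PSL₂ := QuotientGroup.mk' (Subgroup.center SL(2, F))
  have hπ : Function.Surjective π := QuotientGroup.mk'_surjective _
  let T := S.mapSurjective hπ
  obtain ⟨g, hg⟩ := MulAction.exists_smul_eq PSL₂ P T
  have hTab : IsMulCommutative ↥(T : Subgroup PSL₂) := by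
    refine ⟨⟨fun a b => Subtype.ext ?_⟩⟩
    have hm : ∀ x ∈ (T : Subgroup PSL₂), ∃ y ∈ (P : Subgroup PSL₂), g * y * g⁻¹ = x := by
      intro x hx
      rw [← hg] at hx
      obtain ⟨y, hy, hyx⟩ := Subgroup.mem_map.1 hx
      exact ⟨y, hy, hyx⟩
    obtain ⟨y, hy, hyx⟩ := hm _ a.2
    obtain ⟨z, hz, hzx⟩ := hm _ b.2
    have hyz : y * z = z * y :=
      congrArg Subtype.val (hab.is_comm.comm (⟨y, hy⟩ : (P : Subgroup PSL₂)) ⟨z, hz⟩)
    change (a : PSL₂) * b = b * a
    rw [← hyx, ← hzx]
    calc g * y * g⁻¹ * (g * z * g⁻¹) = g * (y * z) * g⁻¹ := by group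
      _ = g * (z * y) * g⁻¹ := by rw [hyz]
      _ = _ := by group
  have hker : Subgroup.center SL(2, F) ≤ (S : Subgroup SL(2, F)) := by
    rw [← (CfsgLib.SL2.sylow_two_structure hodd' S).1]
    exact (Subgroup.centralizer_le_normalizer (S : Set SL(2, F))).trans hN.le
  have hle : Subgroup.normalizer ((T : Subgroup PSL₂) : Set PSL₂) ≤
      Subgroup.centralizer ((T : Subgroup PSL₂) : Set PSL₂) := by
    have hTS : (T : Subgroup PSL₂) = (S : Subgroup SL(2, F)).map π := rfl
    have hcomap : (T : Subgroup PSL₂).comap π = (S : Subgroup SL(2, F)) := by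
      rw [hTS, Subgroup.comap_map_eq, QuotientGroup.ker_mk']
      exact sup_eq_left.2 hker
    intro x hx
    obtain ⟨y, rfl⟩ := hπ x
    have hy : y ∈ Subgroup.normalizer ((S : Subgroup SL(2, F)) : Set SL(2, F)) := by
      refine Subgroup.mem_normalizer_iff.2 fun s => ?_
      have := Subgroup.mem_normalizer_iff.1 hx (π s)
      rw [← map_inv, ← map_mul, ← map_mul, ← Subgroup.mem_comap, ← Subgroup.mem_comap, hcomap]
        at this
      exact this
    rw [hN] at hy
    have hyT : π y ∈ (T : Subgroup PSL₂) := Subgroup.mem_map_of_mem π hy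
    exact Subgroup.mem_centralizer_iff.2 fun z hz =>
      congrArg Subtype.val (hTab.is_comm.comm (⟨z, hz⟩ : (T : Subgroup PSL₂)) ⟨_, hyT⟩)
  -- Burnside's transfer theorem contradicts simplicity
  have hcl := commutator_psl2 h3
  let tr := MonoidHom.transferSylow T hle
  have hab' : ∀ a b : ↥(T : Subgroup PSL₂), a * b = b * a := hTab.is_comm.comm
  have hk : tr.ker = ⊤ := by
    rw [eq_top_iff, ← hcl]
    refine Subgroup.commutator_le.2 fun a _ b _ => ?_
    rw [MonoidHom.mem_ker, map_commutatorElement]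
    exact commutatorElement_eq_one_iff_mul_comm.2 (hab' _ _)
  have hc := MonoidHom.ker_transferSylow_isComplement' T hle
  rw [show (MonoidHom.transferSylow T hle).ker = ⊤ from hk] at hc
  have hT1 : Nat.card (T : Subgroup PSL₂) = 1 := by
    have h2 := hc.card_mul
    rw [Subgroup.card_top] at h2
    have : 0 < Nat.card PSL₂ := Nat.card_pos
    exact (Nat.mul_right_inj (a := Nat.card PSL₂) this.ne').1 (h2.trans (mul_one _).symm)
  have hS : Nat.card (S : Subgroup SL(2, F)) ≤ 2 := by
    have hTS : (T : Subgroup PSL₂) = (S : Subgroup SL(2, F)).map π := rfl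
    have hb : (S : Subgroup SL(2, F)).map π = ⊥ := hTS ▸ Subgroup.card_eq_one.1 hT1
    have : (S : Subgroup SL(2, F)) ≤ Subgroup.center SL(2, F) := by
      rw [← QuotientGroup.ker_mk' (Subgroup.center SL(2, F))]
      exact (Subgroup.map_eq_bot_iff _).1 hb
    refine (Subgroup.card_le_of_le this).trans ?_
    rw [← SetLike.coe_sort_coe, CfsgLib.SL2.center_eq, Nat.card_coe_set_eq]
    exact (Set.ncard_insert_le _ _).trans (by rw [Set.ncard_singleton])
  have := Nat.le_of_dvd Nat.card_pos h16
  omega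

/-- A field automorphism of 2-power order is trivial if `q ≡ 3, 5 mod 8`. -/
theorem ringEquiv_eq_one (hq : Fintype.card F % 8 = 3 ∨ Fintype.card F % 8 = 5) {k : ℕ}
    (σ : F ≃+* F) (hσ : σ ^ 2 ^ k = 1) : σ = 1 := by
  classical
  obtain ⟨p, hp⟩ := CharP.exists F
  have := Fact.mk (CharP.char_is_prime F p)
  obtain ⟨f, hf0, hf⟩ := CfsgLib.ClassicalLinear.card_field_eq_pow (F := F) p
  have hfodd : Odd f := by
    rcases Nat.even_or_odd f with ⟨e, rfl⟩ | h
    · exfalso
      rw [← two_mul, mul_comm, pow_mul] at hf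
      have : (p ^ e) ^ 2 % 8 = 3 ∨ (p ^ e) ^ 2 % 8 = 5 := hf ▸ hq
      rw [Nat.pow_mod] at this
      have h8 := Nat.mod_lt (p ^ e) (show 0 < 8 by norm_num)
      interval_cases (p ^ e % 8) <;> simp at this
    · exact h
  letI : Algebra (ZMod p) F := ZMod.algebra F p
  let τ : F ≃ₐ[ZMod p] F := AlgEquiv.ofRingEquiv (f := σ)
    (fun x => DFunLike.congr_fun (RingHom.ext_zmod (σ.toRingHom.comp (algebraMap (ZMod p) F))
      (algebraMap (ZMod p) F)) x)
  have hτpow : ∀ (j : ℕ) (x : F), (τ ^ j) x = (σ ^ j) x := by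
    intro j
    induction j with
    | zero => intro x; rfl
    | succ j ih => intro x; rw [pow_succ', pow_succ', AlgEquiv.mul_apply, ih]; rfl
  have h1 : τ ^ 2 ^ k = 1 := AlgEquiv.ext fun x => by rw [hτpow, hσ]; rfl
  have h2 : τ ^ f = 1 := by
    have hfr : Module.finrank (ZMod p) F = f := by
      have h := Module.card_eq_pow_finrank (K := ZMod p) (V := F)
      rw [ZMod.card, hf] at h
      exact (Nat.pow_right_injective (Fact.out : p.Prime).two_le h).symm
    rw [← hfr, ← IsGalois.card_aut_eq_finrank (ZMod p) F]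
    exact pow_card_eq_one'
  have h3 : τ = 1 := by
    rw [← orderOf_eq_one_iff]
    exact Nat.eq_one_of_dvd_coprimes ((Nat.coprime_two_left.2 hfodd).pow_left k)
      (orderOf_dvd_of_pow_eq_one h1) (orderOf_dvd_of_pow_eq_one h2)
  exact RingEquiv.ext fun x => by
    have := congrArg (fun e : F ≃ₐ[ZMod p] F => e x) h3
    exact this

/-- The commutant of two anticommuting square roots of `-1` consists of scalars. -/
theorem scalar_of_commute (h2 : (2 : F) ≠ 0) {u w M : Matrix (Fin 2) (Fin 2) F}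
    (hu : u * u = -1) (hw : w * w = -1) (huw : u * w = -(w * u))
    (hMu : M * u = u * M) (hMw : M * w = w * M) : ∃ c : F, M = c • 1 := by
  have hli : LinearIndependent F ![1, u, w, u * w] := by
    rw [Fintype.linearIndependent_iff]
    intro g hg
    simp [Fin.sum_univ_four] at hg
    have hwu : w * u = -(u * w) := by rw [huw, neg_neg]
    have e1 := congrArg (fun X => u * X * u) hg
    simp [mul_add, add_mul, Matrix.mul_smul, Matrix.smul_mul, mul_assoc, hu, hwu] at e1
    simp [← mul_assoc, hu] at e1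
    have e2 : g 0 • (1 : Matrix (Fin 2) (Fin 2) F) + g 1 • u = 0 := by
      have : (2 : F) • (g 0 • (1 : Matrix (Fin 2) (Fin 2) F) + g 1 • u) = 0 := by
        linear_combination (norm := module) hg - e1
      exact (smul_eq_zero.1 this).resolve_left h2
    have e3 := congrArg (fun X => w * X * w) e2
    simp [mul_add, add_mul, Matrix.mul_smul, Matrix.smul_mul, mul_assoc, hw] at e3
    rw [huw] at e3
    simp [mul_neg, ← mul_assoc, hw] at e3
    have hu0 : u ≠ 0 := fun h => by
      have := congrArg (fun X : Matrix (Fin 2) (Fin 2) F => X 0 0) hu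
      simp [h] at this
    have e4 : g 0 = 0 := by
      have : (2 : F) • (g 0 • (1 : Matrix (Fin 2) (Fin 2) F)) = 0 := by
        linear_combination (norm := module) e2 - e3
      have := (smul_eq_zero.1 this).resolve_left h2
      exact (smul_eq_zero.1 this).resolve_right one_ne_zero
    have e5 : g 1 = 0 := by
      rw [e4, zero_smul, zero_add] at e2
      exact (smul_eq_zero.1 e2).resolve_right hu0
    rw [e4, e5, zero_smul, zero_smul, zero_add, zero_add] at hg
    have e6 := congrArg (fun X => X * w) hg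
    simp [add_mul, Matrix.smul_mul, mul_assoc, hw] at e6
    have e7 : (-g 2) • (1 : Matrix (Fin 2) (Fin 2) F) + (-g 3) • u = 0 := by
      linear_combination (norm := module) e6
    have e8 := congrArg (fun X => w * X * w) e7
    simp [mul_add, add_mul, Matrix.mul_smul, Matrix.smul_mul, mul_assoc, hw] at e8
    rw [huw] at e8
    simp [mul_neg, ← mul_assoc, hw] at e8
    have e9 : g 2 = 0 := by
      have : (2 : F) • ((-g 2) • (1 : Matrix (Fin 2) (Fin 2) F)) = 0 := by
        linear_combination (norm := module) e7 - e8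
      have := (smul_eq_zero.1 this).resolve_left h2
      simpa using this
    have e10 : g 3 = 0 := by
      rw [e9, neg_zero, zero_smul, zero_add] at e7
      exact neg_eq_zero.1 ((smul_eq_zero.1 e7).resolve_right hu0)
    intro i
    fin_cases i <;> assumption
  let b := basisOfLinearIndependentOfCardEqFinrank hli (by simp [Module.finrank_matrix])
  have hM := (b.sum_repr M).symm
  simp [b, Fin.sum_univ_four] at hM
  set c0 := b.repr M 0
  set c1 := b.repr M 1
  set c2 := b.repr M 2
  set c3 := b.repr M 3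
  have hM' : M = c0 • 1 + c1 • u + c2 • w + c3 • (u * w) := hM
  rw [hM'] at hMu hMw
  have hwu : w * u = -(u * w) := by rw [huw, neg_neg]
  simp [mul_add, add_mul, Matrix.mul_smul, Matrix.smul_mul, mul_assoc, hwu] at hMu
  simp [mul_add, add_mul, Matrix.mul_smul, Matrix.smul_mul, mul_assoc, hwu] at hMw
  simp [← mul_assoc, hu] at hMu
  simp [← mul_assoc, hwu] at hMw
  simp [mul_assoc, hw] at hMw
  have hind := Fintype.linearIndependent_iff.1 hli
  have f1 := hind ![0, 0, 2 * c3, -(2 * c2)] (by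
    simp [Fin.sum_univ_four]; linear_combination (norm := module) hMu)
  have f2 := hind ![0, -(2 * c3), 0, 2 * c1] (by
    simp [Fin.sum_univ_four]; linear_combination (norm := module) hMw)
  have g3 : c3 = 0 := by simpa [h2] using f1 2
  have g2 : c2 = 0 := by simpa [h2] using f1 3
  have g1 : c1 = 0 := by simpa [h2] using f2 3
  exact ⟨c0, by simp [hM', g1, g2, g3]⟩

/-- An automorphism of 2-power order of `PSL₂(q)`, `q ≡ 3, 5 mod 8`, centralizing a Sylow
2-subgroup is conjugation by an element of it. -/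
theorem eq_conj_of_fixes (hq : Fintype.card F % 8 = 3 ∨ Fintype.card F % 8 = 5) (V : Sylow 2 PSL₂)
    (φ : MulAut PSL₂) {k : ℕ} (hk : φ ^ 2 ^ k = 1) (hfix : ∀ v ∈ (V : Subgroup PSL₂), φ v = v) :
    ∃ v ∈ (V : Subgroup PSL₂), φ = MulAut.conj v := by
  classical
  have h2 : (2 : F) ≠ 0 := Ring.two_ne_zero fun hc => by
    have := FiniteField.even_card_iff_char_two.1 hc; omega
  obtain ⟨g, σ, hgσ⟩ := PSL.exists_semiAut (le_refl 2) φ
  have hφ : φ = PSL.semiAut g σ := hgσ.resolve_right fun h => by omega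
  have hσ : σ = 1 := by
    have hpow : ∀ j : ℕ, ∃ g' : GL (Fin 2) F, φ ^ j = PSL.semiAut g' (σ ^ j) := by
      intro j
      induction j with
      | zero => exact ⟨1, by simp⟩
      | succ j ih =>
        obtain ⟨g', h⟩ := ih
        exact ⟨_, by rw [pow_succ, h, hφ, PSL.semiAut_mul, ← pow_succ]⟩
    obtain ⟨g', h⟩ := hpow (2 ^ k)
    exact ringEquiv_eq_one hq σ ((PSL.semiAut_eq_one_iff (le_refl 2)).1 (h.symm.trans hk)).1
  subst hσ
  have hK := CfsgLib.ClassicalForms.isKleinFour_sylow_psl2 (q := Fintype.card F)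
    Nat.card_eq_fintype_card hq V
  have hsq : ∀ x : ↥(V : Subgroup PSL₂), x * x = 1 := fun x => by
    have := Monoid.pow_exponent_eq_one x
    rwa [hK.exponent_two, pow_two] at this
  -- two anticommuting lifts
  obtain ⟨a, ha⟩ : ∃ a : ↥(V : Subgroup PSL₂), a ≠ 1 := by
    haveI : Nontrivial ↥(V : Subgroup PSL₂) :=
      Finite.one_lt_card_iff_nontrivial.1 (by rw [hK.card_four]; norm_num)
    exact exists_ne 1
  obtain ⟨b, hb1, hba⟩ : ∃ b : ↥(V : Subgroup PSL₂), b ≠ 1 ∧ b ≠ a := by
    by_contra h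
    push Not at h
    have : Nat.card ↥(V : Subgroup PSL₂) ≤ 2 := by
      have hsub : (Set.univ : Set ↥(V : Subgroup PSL₂)) ⊆ {1, a} := fun x _ => by
        by_cases hx : x = 1
        · exact Or.inl hx
        · exact Or.inr (h x hx)
      have := Set.ncard_le_ncard hsub
      rw [Set.ncard_univ] at this
      exact this.trans ((Set.ncard_insert_le _ _).trans (by rw [Set.ncard_singleton]))
    rw [hK.card_four] at this
    omega
  obtain ⟨U, hU⟩ := PSL.cl_surjective (a : PSL₂)
  obtain ⟨W, hW⟩ := PSL.cl_surjective (b : PSL₂)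
  have hlift : ∀ (S : Matrix.SpecialLinearGroup (Fin 2) F) (x : ↥(V : Subgroup PSL₂)),
      x ≠ 1 → PSL.cl S = (x : PSL₂) → (S : Matrix (Fin 2) (Fin 2) F) * S = -1 := by
    intro S x hx hS
    have h1 : PSL.cl (S * S) = 1 := by
      rw [PSL.cl_mul, hS, ← Subgroup.coe_mul, hsq]
      rfl
    have h4 := (QuotientGroup.eq_one_iff _).1 h1
    obtain ⟨c, hc⟩ := PSL.mem_center_iff_smul.1 h4
    rw [Matrix.SpecialLinearGroup.coe_mul] at hc
    have hdet : c ^ 2 = 1 := by
      have := congrArg Matrix.det hc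
      rw [Matrix.det_mul, S.2, Matrix.det_smul, Matrix.det_one, Fintype.card_fin] at this
      simpa using this.symm
    have hne : ∀ d : F, (S : Matrix (Fin 2) (Fin 2) F) ≠ d • 1 := fun d hd => hx (Subtype.ext (by
      rw [← hS]
      exact (QuotientGroup.eq_one_iff _).2 (PSL.mem_center_iff_smul.2 ⟨d, hd⟩)))
    rcases mul_self_eq_one_iff.1 (by rw [← pow_two, hdet] : c * c = 1) with rfl | rfl
    · exfalso
      rw [one_smul] at hc
      have h00 := congrArg (fun X : Matrix (Fin 2) (Fin 2) F => X 0 0) hc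
      have h01 := congrArg (fun X : Matrix (Fin 2) (Fin 2) F => X 0 1) hc
      have h10 := congrArg (fun X : Matrix (Fin 2) (Fin 2) F => X 1 0) hc
      have h11 := congrArg (fun X : Matrix (Fin 2) (Fin 2) F => X 1 1) hc
      simp [Matrix.mul_apply, Fin.sum_univ_two] at h00 h01 h10 h11
      have hd := S.2
      rw [Matrix.det_fin_two] at hd
      refine hne ((S : Matrix (Fin 2) (Fin 2) F) 0 0) ?_
      set s00 := (S : Matrix (Fin 2) (Fin 2) F) 0 0
      set s01 := (S : Matrix (Fin 2) (Fin 2) F) 0 1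
      set s10 := (S : Matrix (Fin 2) (Fin 2) F) 1 0
      set s11 := (S : Matrix (Fin 2) (Fin 2) F) 1 1
      -- trace times entries vanish
      have ht : (s00 + s11) * (s00 + s11) = 4 := by linear_combination h00 + h11 + 2 * hd
      have hts : s00 + s11 ≠ 0 := fun h0 => by
        rw [h0, mul_zero] at ht
        exact h2 (mul_self_eq_zero.1 (by linear_combination -ht))
      have e01 : s01 = 0 := (mul_eq_zero.1 (show s01 * (s00 + s11) = 0 by linear_combination h01)).resolve_right hts
      have e10 : s10 = 0 := (mul_eq_zero.1 (show s10 * (s00 + s11) = 0 by linear_combination h10)).resolve_right hts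
      have e11 : s11 = s00 := by
        have h' : s11 - s00 = 0 := (mul_eq_zero.1 (show (s11 - s00) * (s00 + s11) = 0 by
          linear_combination h11 - h00)).resolve_right hts
        linear_combination h'
      ext i j
      fin_cases i <;> fin_cases j <;> simp [s00, s01, s10, s11] at e01 e10 e11 ⊢ <;> assumption
    · rw [hc, neg_smul, one_smul]
  have hUU := hlift U a ha hU
  have hWW := hlift W b hb1 hW
  have hab : a * b = b * a := by
    haveI : IsMulCommutative ↥(V : Subgroup PSL₂) :=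
      ⟨⟨mul_comm_of_exponent_two hK.exponent_two⟩⟩
    exact mul_comm' a b
  have huw : (U : Matrix (Fin 2) (Fin 2) F) * W = -((W : Matrix (Fin 2) (Fin 2) F) * U) := by
    have hc : PSL.cl (W * U) = PSL.cl (U * W) := by
      rw [PSL.cl_mul, PSL.cl_mul, hU, hW, ← Subgroup.coe_mul, ← Subgroup.coe_mul, hab]
    obtain ⟨c, hc'⟩ := PSL.cl_eq_cl_iff.1 hc
    rw [Matrix.SpecialLinearGroup.coe_mul, Matrix.SpecialLinearGroup.coe_mul] at hc'
    have hdet : c ^ 2 = 1 := by
      have := congrArg Matrix.det hc'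
      rw [Matrix.det_smul, Matrix.det_mul, Matrix.det_mul, U.2, W.2, Fintype.card_fin] at this
      linear_combination -this
    rcases mul_self_eq_one_iff.1 (by rw [← pow_two, hdet] : c * c = 1) with rfl | rfl
    · exfalso
      rw [one_smul] at hc'
      have hxx : a * b ≠ 1 := by
        intro h
        refine hba (inv_eq_of_mul_eq_one_right h ▸ ?_)
        exact inv_eq_of_mul_eq_one_right (hsq a)
      have h1 := hlift (U * W) (a * b) hxx (by rw [PSL.cl_mul, hU, hW]; rfl)
      rw [Matrix.SpecialLinearGroup.coe_mul] at h1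
      have h3 : (1 : Matrix (Fin 2) (Fin 2) F) = -1 := by
        calc (1 : Matrix (Fin 2) (Fin 2) F) = ((U : Matrix (Fin 2) (Fin 2) F) * U) * (W * W) := by
              rw [hUU, hWW, neg_mul_neg, one_mul]
          _ = (U : Matrix (Fin 2) (Fin 2) F) * ((U : Matrix (Fin 2) (Fin 2) F) * W) * W := by
              simp only [Matrix.mul_assoc]
          _ = (U : Matrix (Fin 2) (Fin 2) F) * ((W : Matrix (Fin 2) (Fin 2) F) * U) * W := by rw [hc']
          _ = (U : Matrix (Fin 2) (Fin 2) F) * W * (U * W) := by simp only [Matrix.mul_assoc]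
          _ = -1 := h1
      have := congrArg (fun X : Matrix (Fin 2) (Fin 2) F => X 0 0) h3
      simp at this
      exact h2 (by linear_combination this)
    · rw [hc', neg_smul, one_smul]
  -- `g` maps each lift to plus or minus itself
  have hsign : ∀ (S : Matrix.SpecialLinearGroup (Fin 2) F) (x : ↥(V : Subgroup PSL₂)),
      PSL.cl S = (x : PSL₂) →
      (g : Matrix (Fin 2) (Fin 2) F) * S = (S : Matrix (Fin 2) (Fin 2) F) * g ∨
        (g : Matrix (Fin 2) (Fin 2) F) * S = -((S : Matrix (Fin 2) (Fin 2) F) * g) := by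
    intro S x hS
    have h1 := hfix _ x.2
    rw [← hS, hφ, PSL.semiAut_cl] at h1
    obtain ⟨c, hc⟩ := PSL.cl_eq_cl_iff.1 h1.symm
    rw [PSL.coe_semiSLHom, show (S : Matrix (Fin 2) (Fin 2) F).map (⇑(1 : F ≃+* F)) = S by ext i j; rfl] at hc
    have hdet : c ^ 2 = 1 := by
      have := congrArg Matrix.det hc
      rw [Matrix.det_units_conj, Matrix.det_smul, S.2, Fintype.card_fin, mul_one] at this
      exact this.symm
    have hc' : (g : Matrix (Fin 2) (Fin 2) F) * S = c • ((S : Matrix (Fin 2) (Fin 2) F) * g) := by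
      rw [← Matrix.smul_mul, ← hc, Matrix.mul_assoc, Units.inv_mul, Matrix.mul_one]
    rcases mul_self_eq_one_iff.1 (by rw [← pow_two, hdet] : c * c = 1) with rfl | rfl
    · exact Or.inl (by rw [hc', one_smul])
    · exact Or.inr (by rw [hc', neg_smul, one_smul])
  obtain ⟨T, x, hTx, hTu, hTw⟩ : ∃ (T : Matrix.SpecialLinearGroup (Fin 2) F)
      (x : ↥(V : Subgroup PSL₂)), PSL.cl T = (x : PSL₂) ∧
      (g : Matrix (Fin 2) (Fin 2) F) * T * U = (U : Matrix (Fin 2) (Fin 2) F) * ((g : Matrix (Fin 2) (Fin 2) F) * T) ∧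
      (g : Matrix (Fin 2) (Fin 2) F) * T * W = (W : Matrix (Fin 2) (Fin 2) F) * ((g : Matrix (Fin 2) (Fin 2) F) * T) := by
    have hwu : (W : Matrix (Fin 2) (Fin 2) F) * U = -((U : Matrix (Fin 2) (Fin 2) F) * W) := by
      rw [huw, neg_neg]
    rcases hsign U a hU with hu | hu <;> rcases hsign W b hW with hw | hw
    · exact ⟨1, 1, rfl, by simp [hu], by simp [hw]⟩
    · exact ⟨U, a, hU, by rw [Matrix.mul_assoc, ← Matrix.mul_assoc (U : Matrix (Fin 2) (Fin 2) F), ← hu, Matrix.mul_assoc],
        by rw [Matrix.mul_assoc, huw, Matrix.mul_neg, ← Matrix.mul_assoc, hw, neg_mul, neg_neg,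
          Matrix.mul_assoc]⟩
    · exact ⟨W, b, hW, by rw [Matrix.mul_assoc, hwu, Matrix.mul_neg, ← Matrix.mul_assoc, hu, neg_mul, neg_neg,
          Matrix.mul_assoc],
        by rw [Matrix.mul_assoc, ← Matrix.mul_assoc (W : Matrix (Fin 2) (Fin 2) F), ← hw, Matrix.mul_assoc]⟩
    · refine ⟨U * W, a * b, by rw [PSL.cl_mul, hU, hW]; rfl, ?_, ?_⟩
      · rw [Matrix.SpecialLinearGroup.coe_mul, Matrix.mul_assoc, Matrix.mul_assoc, hwu,
          Matrix.mul_neg, Matrix.mul_neg, ← Matrix.mul_assoc, hu, neg_mul, neg_neg, Matrix.mul_assoc]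
      · rw [Matrix.SpecialLinearGroup.coe_mul]
        have key : ∀ A B C : Matrix (Fin 2) (Fin 2) F, C * C = -1 → C * B = -(B * C) →
            A * C = -(C * A) → A * (B * C) * C = C * (A * (B * C)) := by
          intro A B C h1 h2 h3
          calc A * (B * C) * C = -(A * B) := by
                rw [Matrix.mul_assoc A, Matrix.mul_assoc B, h1, Matrix.mul_neg, Matrix.mul_one,
                  Matrix.mul_neg]
            _ = -(A * C) * (B * C) := by
                rw [Matrix.neg_mul, Matrix.mul_assoc A, ← Matrix.mul_assoc C B, h2, Matrix.neg_mul,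
                  Matrix.mul_assoc B, h1]
                simp
            _ = C * (A * (B * C)) := by
                rw [h3, neg_neg, Matrix.mul_assoc C A]
        exact key _ _ _ hWW hwu hw
  obtain ⟨c, hc⟩ := scalar_of_commute h2 hUU hWW huw hTu hTw
  refine ⟨((x : ↥(V : Subgroup PSL₂))⁻¹ : PSL₂), inv_mem x.2, ?_⟩
  have h1 : φ * MulAut.conj (x : PSL₂) = 1 := by
    rw [hφ, ← hTx, PSL.inner_eq_semiAut, PSL.semiAut_mul, mul_one, PSL.gmap_one,
      PSL.semiAut_eq_one_iff (le_refl 2)]
    refine ⟨rfl, ?_⟩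
    refine (Cfsg.Geo.mem_scalars_iff _).2 ?_
    have hc0 : c ≠ 0 := fun h0 => (g * Matrix.SpecialLinearGroup.toGL T).ne_zero (by
      rw [h0, zero_smul] at hc
      exact hc)
    exact ⟨Units.mk0 c hc0, hc⟩
  rw [map_inv]
  exact eq_inv_of_mul_eq_one_left h1

end CfsgLib.PSLKleinAut
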